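import Cfsg.Agent.H821.K547.Defs
import Cfsg.Agent.QTUniq.SylowSup
import Cfsg.Agent.Lib.FrattiniPGroup

/-!
# S4547: a criterion for `D3` (helper168)

* `rk_three_of`: three independent subgroups of index two;
* `rk_three`   : `N₁ N₂` of index two in `G`, `Nᵢ` normal, the Sylow 2-subgroups of `G / Nᵢ` not cyclic
  (`Four N`: the image of two elements in `G / N` generates a four group);
* `d3_congr`, `d3_of_conj`: the Sylow 2-subgroups of `G` are conjugate into a subgroup `H` with `D3 H`.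
-/

set_option autoImplicit false

namespace Cfsg.Agent.H168.K547

open Cfsg Cfsg.Agent.H821.K547

universe u v

section sg

variable {P : Type u} [Group P]

open Classical in
/-- the additive sign of a subgroup of index two -/
noncomputable def sg (A : Subgroup P) (x : P) : ZMod 2 := if x ∈ A then 0 else 1

theorem sg_mul {A : Subgroup P} (hA : A.index = 2) (x y : P) : sg A (x * y) = sg A x + sg A y := by
  have h := Subgroup.mul_mem_iff_of_index_two hA (a := x) (b := y)
  unfold sg
  by_cases hx : x ∈ A <;> by_cases hy : y ∈ A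
  · rw [if_pos (h.2 ⟨fun _ => hy, fun _ => hx⟩), if_pos hx, if_pos hy, add_zero]
  · rw [if_neg (fun hc => hy ((h.1 hc).1 hx)), if_pos hx, if_neg hy, zero_add]
  · rw [if_neg (fun hc => hx ((h.1 hc).2 hy)), if_neg hx, if_pos hy, add_zero]
  · rw [if_pos (h.2 ⟨fun hc => absurd hc hx, fun hc => absurd hc hy⟩), if_neg hx, if_neg hy]
    decide

theorem sg_mem {A : Subgroup P} {x : P} (h : x ∈ A) : sg A x = 0 := if_pos h

theorem sg_not_mem {A : Subgroup P} {x : P} (h : x ∉ A) : sg A x = 1 := if_neg h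

theorem zcases (t : ZMod 2) : t = 0 ∨ t = 1 := by
  revert t; decide

/-- three independent subgroups of index two -/
theorem rk_three_of (A B C : Subgroup P) (hA : A.index = 2) (hB : B.index = 2) (hC : C.index = 2) {x y z : P}
    (hx : x ∉ A) (yA : y ∈ A) (yB : y ∉ B) (zA : z ∈ A) (zB : z ∈ B) (zC : z ∉ C) : Rk 3 P := by
  refine ⟨MonoidHom.mk' (fun g => Multiplicative.ofAdd ![sg A g, sg B g, sg C g]) fun a b => ?_, fun t => ?_⟩
  · rw [← ofAdd_add]
    congr 1
    ext i
    fin_cases i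
    · exact sg_mul hA a b
    · exact sg_mul hB a b
    · exact sg_mul hC a b
  · obtain ⟨g0, h0⟩ : ∃ g, sg A g = Multiplicative.toAdd t 0 := by
      rcases zcases (Multiplicative.toAdd t 0) with h | h
      · exact ⟨1, by rw [h, sg_mem A.one_mem]⟩
      · exact ⟨x, by rw [h, sg_not_mem hx]⟩
    obtain ⟨g1, h1, h1'⟩ : ∃ g, sg A g = Multiplicative.toAdd t 0 ∧ sg B g = Multiplicative.toAdd t 1 := by
      by_cases h : sg B g0 = Multiplicative.toAdd t 1
      · exact ⟨g0, h0, h⟩
      · refine ⟨g0 * y, by rw [sg_mul hA, sg_mem yA, add_zero, h0], ?_⟩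
        rw [sg_mul hB, sg_not_mem yB]
        generalize sg B g0 = a at *
        generalize Multiplicative.toAdd t 1 = b at *
        revert a b
        decide
    obtain ⟨g2, h2, h2', h2''⟩ : ∃ g, sg A g = Multiplicative.toAdd t 0 ∧ sg B g = Multiplicative.toAdd t 1 ∧
        sg C g = Multiplicative.toAdd t 2 := by
      by_cases h : sg C g1 = Multiplicative.toAdd t 2
      · exact ⟨g1, h1, h1', h⟩
      · refine ⟨g1 * z, by rw [sg_mul hA, sg_mem zA, add_zero, h1], by rw [sg_mul hB, sg_mem zB, add_zero, h1'], ?_⟩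
        rw [sg_mul hC, sg_not_mem zC]
        generalize sg C g1 = a at *
        generalize Multiplicative.toAdd t 2 = b at *
        clear h0 h1 h1'
        revert a b
        decide
    refine ⟨g2, ?_⟩
    rw [MonoidHom.mk'_apply]
    apply Multiplicative.toAdd.injective
    rw [toAdd_ofAdd]
    ext i
    fin_cases i
    · exact h2
    · exact h2'
    · exact h2''

end sg

/-- the images of two elements in `G / N` generate a four group -/
def Four {G : Type u} [Group G] (N : Subgroup G) : Prop :=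
  ∃ a b : G, a * a ∈ N ∧ b * b ∈ N ∧ a * b * a⁻¹ * b⁻¹ ∈ N ∧ a ∉ N ∧ b ∉ N ∧ a * b ∉ N

section rk

variable {G : Type u} [Group G] [Finite G]

/-- the Sylow 2-subgroups of `G / N` are not cyclic -/
theorem Four.not_cyclic {N : Subgroup G} [N.Normal] (h : Four N) (P : Sylow 2 G) (x : G)
    (hx : (P : Subgroup G) ≤ N ⊔ Subgroup.zpowers x) : False := by
  obtain ⟨a, b, ha, hb, hab, ha1, hb1, hab1⟩ := h
  have hs : Function.Surjective (QuotientGroup.mk' N) := QuotientGroup.mk'_surjective N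
  let Q : Sylow 2 (G ⧸ N) := P.mapSurjective hs
  have hQ : (Q : Subgroup (G ⧸ N)) ≤ Subgroup.zpowers (QuotientGroup.mk' N x) := by
    rw [Sylow.coe_mapSurjective]
    refine (Subgroup.map_mono hx).trans ?_
    rw [Subgroup.map_sup, MonoidHom.map_zpowers]
    refine sup_le ?_ le_rfl
    rw [QuotientGroup.map_mk'_self]
    exact bot_le
  have hQc : IsCyclic (Q : Subgroup (G ⧸ N)) := by
    have h1 : IsCyclic (Subgroup.zpowers (QuotientGroup.mk' N x)) := inferInstance
    exact isCyclic_of_injective (Subgroup.inclusion hQ) (Subgroup.inclusion_injective hQ)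
  set α : G ⧸ N := QuotientGroup.mk' N a with hα
  set β : G ⧸ N := QuotientGroup.mk' N b with hβ
  have e : ∀ g : G, QuotientGroup.mk' N g = 1 ↔ g ∈ N := fun g => by
    rw [← MonoidHom.mem_ker, QuotientGroup.ker_mk']
  have hα2 : α * α = 1 := by rw [hα, ← map_mul]; exact (e _).2 ha
  have hβ2 : β * β = 1 := by rw [hβ, ← map_mul]; exact (e _).2 hb
  have hα1 : α ≠ 1 := fun h => ha1 ((e _).1 h)
  have hβ1 : β ≠ 1 := fun h => hb1 ((e _).1 h)
  have hαβ1 : α * β ≠ 1 := fun h => hab1 ((e _).1 (by rw [map_mul]; exact h))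
  have hc : α * β = β * α := by
    have h1 : α * β * α⁻¹ * β⁻¹ = 1 := by
      rw [hα, hβ, ← map_mul, ← map_inv, ← map_mul, ← map_inv, ← map_mul]
      exact (e _).2 hab
    calc α * β = (α * β * α⁻¹ * β⁻¹) * (β * α) := by group
      _ = β * α := by rw [h1, one_mul]
  -- the four group
  let V : Subgroup (G ⧸ N) :=
    { carrier := {g | g = 1 ∨ g = α ∨ g = β ∨ g = α * β}
      one_mem' := Or.inl rfl
      mul_mem' := by
        rintro g h (rfl | rfl | rfl | rfl) (rfl | rfl | rfl | rfl)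
        · left; rw [one_mul]
        · right; left; rw [one_mul]
        · right; right; left; rw [one_mul]
        · right; right; right; rw [one_mul]
        · right; left; rw [mul_one]
        · left; exact hα2
        · right; right; right; rfl
        · right; right; left; rw [← mul_assoc, hα2, one_mul]
        · right; right; left; rw [mul_one]
        · right; right; right; exact hc.symm
        · left; exact hβ2
        · right; left; rw [hc, ← mul_assoc, hβ2, one_mul]
        · right; right; right; rw [mul_one]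
        · right; right; left; rw [hc, mul_assoc, hα2, mul_one]
        · right; left; rw [mul_assoc, hβ2, mul_one]
        · left
          calc α * β * (α * β) = α * β * (β * α) := by rw [hc]
            _ = α * (β * β) * α := by group
            _ = 1 := by rw [hβ2, mul_one, hα2]
      inv_mem' := by
        have iα : α⁻¹ = α := inv_eq_of_mul_eq_one_left hα2
        have iβ : β⁻¹ = β := inv_eq_of_mul_eq_one_left hβ2
        rintro g (rfl | rfl | rfl | rfl)
        · left; exact inv_one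
        · right; left; exact iα
        · right; right; left; exact iβ
        · right; right; right; rw [mul_inv_rev, iα, iβ, hc] }
  have hV : IsPGroup 2 V := by
    intro g
    refine ⟨1, Subtype.ext ?_⟩
    have hg : (g : G ⧸ N) = 1 ∨ (g : G ⧸ N) = α ∨ (g : G ⧸ N) = β ∨ (g : G ⧸ N) = α * β := g.2
    rw [pow_one, Subgroup.coe_pow, Subgroup.coe_one, pow_two]
    rcases hg with h | h | h | h <;> rw [h]
    · rw [one_mul]
    · exact hα2
    · exact hβ2
    · calc α * β * (α * β) = α * β * (β * α) := by rw [hc]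
        _ = α * (β * β) * α := by group
        _ = 1 := by rw [hβ2, mul_one, hα2]
  obtain ⟨R, hR⟩ := hV.exists_le_sylow
  have hRc : IsCyclic (R : Subgroup (G ⧸ N)) := (Sylow.equiv Q R).isCyclic.1 hQc
  classical
  have : Fintype (R : Subgroup (G ⧸ N)) := Fintype.ofFinite _
  have h3 := IsCyclic.card_pow_eq_one_le (α := (R : Subgroup (G ⧸ N))) (n := 2) two_pos
  have mα : α ∈ (R : Subgroup (G ⧸ N)) := hR (Or.inr (Or.inl rfl))
  have mβ : β ∈ (R : Subgroup (G ⧸ N)) := hR (Or.inr (Or.inr (Or.inl rfl)))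
  have h4 : ({1, ⟨α, mα⟩, ⟨β, mβ⟩} : Finset (R : Subgroup (G ⧸ N))) ⊆
      Finset.univ.filter (fun a => a ^ 2 = 1) := by
    intro g hg
    rw [Finset.mem_filter]
    refine ⟨Finset.mem_univ _, Subtype.ext ?_⟩
    simp only [Finset.mem_insert, Finset.mem_singleton] at hg
    rw [Subgroup.coe_pow, pow_two]
    rcases hg with rfl | rfl | rfl
    · exact one_mul 1
    · exact hα2
    · exact hβ2
  have h5 := Finset.card_le_card h4
  have h6 : ({1, ⟨α, mα⟩, ⟨β, mβ⟩} : Finset (R : Subgroup (G ⧸ N))).card = 3 := by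
    rw [Finset.card_eq_three]
    refine ⟨1, ⟨α, mα⟩, ⟨β, mβ⟩, fun h => hα1 (congrArg Subtype.val h).symm,
      fun h => hβ1 (congrArg Subtype.val h).symm, fun h => hαβ1 ?_, rfl⟩
    have : α = β := congrArg Subtype.val h
    rw [← this, hα2]
  omega

/-- one of the two subgroups of index two -/
theorem exists_index_two {N M : Subgroup G} [N.Normal] (h : Four N) (P : Sylow 2 G)
    (hM : (M.subgroupOf P).index = 2) :
    ∃ B : Subgroup (P : Subgroup G), B.index = 2 ∧ N.subgroupOf P ≤ B ∧ B ≠ M.subgroupOf P := by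
  obtain ⟨x, hx⟩ : ∃ x : (P : Subgroup G), x ∉ M.subgroupOf (P : Subgroup G) := by
    by_contra hc
    push Not at hc
    have : M.subgroupOf (P : Subgroup G) = ⊤ := Subgroup.eq_top_iff' _ |>.2 hc
    rw [this, Subgroup.index_top] at hM
    exact absurd hM (by norm_num)
  have hne : N.subgroupOf (P : Subgroup G) ⊔ Subgroup.zpowers x ≠ ⊤ := by
    intro htop
    refine h.not_cyclic P (x : G) ?_
    intro g hg
    have h1 : (⟨g, hg⟩ : (P : Subgroup G)) ∈ N.subgroupOf (P : Subgroup G) ⊔ Subgroup.zpowers x := by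
      rw [htop]; exact Subgroup.mem_top _
    rw [Subgroup.mem_sup_of_normal_left] at h1
    obtain ⟨n, hn, y, hy, e⟩ := h1
    rw [Subgroup.mem_subgroupOf] at hn
    obtain ⟨k, hk⟩ := Subgroup.mem_zpowers_iff.1 hy
    have e2 : g = (n : G) * (x : G) ^ k := by
      have := congrArg Subtype.val e
      rw [← hk] at this
      simpa using this.symm
    rw [e2]
    exact Subgroup.mul_mem_sup hn (Subgroup.zpow_mem_zpowers _ _)
  obtain ⟨B, hB, hle⟩ := (eq_top_or_exists_le_coatom _).resolve_left hne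
  refine ⟨B, Cfsg.Agent.Lib.FrattiniPGroup.index_of_coatom P.isPGroup' hB, le_sup_left.trans hle, ?_⟩
  rintro rfl
  exact hx (hle (Subgroup.mem_sup_right (Subgroup.mem_zpowers x)))

/-- `N₁ N₂` of index two, Sylow 2-subgroups of `G / Nᵢ` not cyclic: three generators -/
theorem rk_three (N₁ N₂ : Subgroup G) [N₁.Normal] [N₂.Normal] (h2 : (N₁ ⊔ N₂).index = 2) (h₁ : Four N₁)
    (h₂ : Four N₂) (P : Sylow 2 G) : Rk 3 (P : Subgroup G) := by
  have hA : ((N₁ ⊔ N₂).subgroupOf (P : Subgroup G)).index = 2 := by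
    have h3 : ((N₁ ⊔ N₂).subgroupOf (P : Subgroup G)).index ∣ 2 :=
      (Subgroup.relIndex_dvd_index_of_normal (N₁ ⊔ N₂) (P : Subgroup G)).trans (dvd_of_eq h2)
    rcases (Nat.dvd_prime Nat.prime_two).1 h3 with h4 | h4
    · exfalso
      have h5 : (P : Subgroup G) ≤ N₁ ⊔ N₂ := Subgroup.relIndex_eq_one.1 h4
      have h6 : (N₁ ⊔ N₂).index ∣ (P : Subgroup G).index := Subgroup.index_dvd_of_le h5
      have h6 : 2 ∣ (P : Subgroup G).index := (dvd_of_eq h2.symm).trans h6
      exact P.not_dvd_index h6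
    · exact h4
  obtain ⟨B, hB, hB2, hBA⟩ := exists_index_two h₂ P hA
  obtain ⟨C, hC, hC1, hCA⟩ := exists_index_two h₁ P hA
  -- `P ∩ N₁ N₂` is generated by the two intersections
  have hsup : ∀ D : Subgroup (P : Subgroup G), N₁.subgroupOf (P : Subgroup G) ≤ D →
      N₂.subgroupOf (P : Subgroup G) ≤ D → (N₁ ⊔ N₂).subgroupOf (P : Subgroup G) ≤ D := by
    intro D h1 h2 g hg
    rw [Subgroup.mem_subgroupOf] at hg
    have h3 : (g : G) ∈ ((P : Subgroup G) ⊓ N₁) ⊔ ((P : Subgroup G) ⊓ N₂) :=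
      Cfsg.Agent.QTUniq.SylowSup.inf_sup_le P N₁ N₂ ⟨g.2, hg⟩
    have h4 : ((P : Subgroup G) ⊓ N₁) ⊔ ((P : Subgroup G) ⊓ N₂) ≤ D.map (P : Subgroup G).subtype := by
      refine sup_le ?_ ?_
      · rintro y ⟨hy, hy'⟩
        exact ⟨⟨y, hy⟩, h1 hy', rfl⟩
      · rintro y ⟨hy, hy'⟩
        exact ⟨⟨y, hy⟩, h2 hy', rfl⟩
    obtain ⟨y, hy, e⟩ := h4 h3
    have : y = g := Subtype.ext e
    rwa [← this]
  have hne : ∀ D : Subgroup (P : Subgroup G), D.index = 2 → D ≠ (N₁ ⊔ N₂).subgroupOf (P : Subgroup G) →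
      ¬ (N₁ ⊔ N₂).subgroupOf (P : Subgroup G) ≤ D := by
    intro D h1 h2 h3
    apply h2
    refine (Subgroup.eq_of_le_of_card_ge h3 ?_).symm
    have h4 := D.card_mul_index
    have h5 := ((N₁ ⊔ N₂).subgroupOf (P : Subgroup G)).card_mul_index
    rw [h1] at h4
    rw [hA] at h5
    omega
  obtain ⟨x, hx⟩ : ∃ x : (P : Subgroup G), x ∉ (N₁ ⊔ N₂).subgroupOf (P : Subgroup G) := by
    by_contra hc
    push Not at hc
    have : (N₁ ⊔ N₂).subgroupOf (P : Subgroup G) = ⊤ := Subgroup.eq_top_iff' _ |>.2 hc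
    rw [this, Subgroup.index_top] at hA
    exact absurd hA (by norm_num)
  obtain ⟨y, hy1, hyB⟩ : ∃ y ∈ N₁.subgroupOf (P : Subgroup G), y ∉ B := by
    by_contra hc
    push Not at hc
    exact hne B hB hBA (hsup B hc hB2)
  obtain ⟨z, hz2, hzC⟩ : ∃ z ∈ N₂.subgroupOf (P : Subgroup G), z ∉ C := by
    by_contra hc
    push Not at hc
    exact hne C hC hCA (hsup C hC1 hc)
  exact rk_three_of _ B C hA hB hC hx (Subgroup.mem_subgroupOf.2 (Subgroup.mem_sup_left hy1)) hyB
    (Subgroup.mem_subgroupOf.2 (Subgroup.mem_sup_right hz2)) (hB2 hz2) hzC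

/-- the same for all Sylow subgroups -/
theorem d3_of_two (N₁ N₂ : Subgroup G) [N₁.Normal] [N₂.Normal] (h2 : (N₁ ⊔ N₂).index = 2) (h₁ : Four N₁)
    (h₂ : Four N₂) : D3 G := fun P => rk_three N₁ N₂ h2 h₁ h₂ P

end rk

theorem rk_congr {n : ℕ} {P : Type u} {Q : Type v} [Group P] [Group Q] (e : P ≃* Q) (h : Rk n P) : Rk n Q := by
  obtain ⟨f, hf⟩ := h
  exact ⟨f.comp e.symm.toMonoidHom, hf.comp e.symm.surjective⟩

/-- isomorphic groups, any universes -/
theorem d3_congr {G : Type u} {H : Type v} [Group G] [Group H] (e : G ≃* H) (h : D3 G) : D3 H := by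
  intro Q
  have h1 := h (Q.comapOfInjective e.toMonoidHom e.injective (by rw [MonoidHom.range_eq_top.2 e.surjective]; exact le_top))
  refine rk_congr (MulEquiv.ofBijective ((e.toMonoidHom.subgroupComap (Q : Subgroup H))) ⟨?_, ?_⟩) h1
  · intro x y hxy
    exact Subtype.ext (e.injective (congrArg Subtype.val hxy))
  · intro y
    refine ⟨⟨e.symm y, ?_⟩, Subtype.ext (e.apply_symm_apply _)⟩
    show e (e.symm y) ∈ (Q : Subgroup H)
    rw [e.apply_symm_apply]
    exact y.2

/-- every Sylow 2-subgroup is conjugate into `H` -/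
theorem d3_of_conj {G : Type u} [Group G] [Finite G] (H : Subgroup G) (h : D3 H)
    (hc : ∀ Q : Sylow 2 G, ∃ x : G, ∀ g ∈ (Q : Subgroup G), x * g * x⁻¹ ∈ H) : D3 G := by
  intro Q
  obtain ⟨x, hx⟩ := hc Q
  have hle : ((x • Q : Sylow 2 G) : Subgroup G) ≤ H := by
    intro g hg
    rw [Sylow.coe_subgroup_smul, Subgroup.mem_smul_pointwise_iff_exists] at hg
    obtain ⟨y, hy, rfl⟩ := hg
    exact hx y hy
  have h1 := h ((x • Q : Sylow 2 G).subtype hle)
  refine rk_congr ?_ h1
  refine (Subgroup.subgroupOfEquivOfLe hle).trans ?_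
  exact Sylow.equiv _ _

end Cfsg.Agent.H168.K547
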