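import Cfsg.Agent.H168.K547.D3
import Cfsg.Agent.Cit.HexCore
import Cfsg.Agent.Cit.HexInv
import Cfsg.Agent.Cit.HexSL
import Cfsg.Agent.Cit.HexD4
import Cfsg.Agent.Cit.HexG2
import Cfsg.Agent.H588.UnfLie

/-!
# S4547, task 5027: `D3` for `G₂(q)` and `³D₄(q)`, `q` odd (helper168)

`C(z) ≥ K₁ K₄` of index two (`K₁ = SL(2,q³)` or `SL(2,q)`, `K₄ = SL(2,q)`), of odd index in the group.
-/

set_option autoImplicit false

namespace Cfsg.Agent.H168.K547

open Cfsg Cfsg.Agent.H821.K547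
open Cfsg.Agent.Cit.HexBase Cfsg.Agent.Lib.SL2Mat Cfsg.Agent.Cit.HexBase.HexGrp

universe u v

section field

variable {F : Type v} [Field F] [Finite F]

theorem exists_nonsq (h2 : (2 : F) ≠ 0) : ∃ s : F, s ≠ 0 ∧ ¬ IsSquare s ∧
    ∀ t : F, t ≠ 0 → (IsSquare (t * s) ↔ ¬ IsSquare t) := by
  have := Fintype.ofFinite F
  classical
  have hF : ringChar F ≠ 2 := by
    intro h
    apply h2
    have := ringChar.Nat.cast_ringChar (R := F)
    rw [h] at this
    exact_mod_cast this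
  obtain ⟨s, hs⟩ := FiniteField.exists_nonsquare hF
  have hs0 : s ≠ 0 := by
    rintro rfl
    exact hs (IsSquare.zero)
  refine ⟨s, hs0, hs, fun t ht => ?_⟩
  rw [← quadraticChar_one_iff_isSquare (mul_ne_zero ht hs0), map_mul, quadraticChar_neg_one_iff_not_isSquare.2 hs,
    ← quadraticChar_neg_one_iff_not_isSquare]
  constructor
  · intro h
    linarith
  · intro h
    rw [h]; norm_num

end field

variable {E : Type v} [Field E] {σ : E ≃+* E} {L : Type u} [Group L]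

section four

/-- the four group in `C(z) / N` -/
theorem four_of {z : L} {N M : Subgroup L} (hMC : M ≤ Subgroup.centralizer ({z} : Set L)) (hzN : z ∈ N) (hz2 : z * z = 1)
    (hz1 : z ≠ 1) (hinf : ∀ x ∈ M, x ∈ N → x = 1 ∨ x = z) {i j : L} (hi : i ∈ M) (hj : j ∈ M) (h1 : i * i = z)
    (h2 : j * j = z) (h3 : j * i = z * (i * j)) : Four (N.subgroupOf (Subgroup.centralizer ({z} : Set L))) := by
  have hzi : z * i = i * z := by rw [← h1]; group
  have hzj : z * j = j * z := by rw [← h2]; group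
  have key : ∀ x ∈ M, x * x = z → x ∉ N := by
    intro x hx hxx hxN
    rcases hinf x hx hxN with h | h
    · rw [h, one_mul] at hxx; exact hz1 hxx.symm
    · rw [h, hz2] at hxx; exact hz1 hxx.symm
  have hij : i * j * (i * j) = z := by
    calc i * j * (i * j) = i * (j * i) * j := by group
      _ = i * (z * (i * j)) * j := by rw [h3]
      _ = i * (z * i) * (j * j) := by group
      _ = (i * i) * z * (j * j) := by rw [hzi]; group
      _ = z := by rw [h1, h2, hz2, one_mul]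
  refine ⟨⟨i, hMC hi⟩, ⟨j, hMC hj⟩, ?_, ?_, ?_, ?_, ?_, ?_⟩ <;> rw [Subgroup.mem_subgroupOf]
  · show i * i ∈ N
    rw [h1]; exact hzN
  · show j * j ∈ N
    rw [h2]; exact hzN
  · show i * j * i⁻¹ * j⁻¹ ∈ N
    have e : i * j = z * (j * i) := by rw [h3, ← mul_assoc, hz2, one_mul]
    have : i * j * i⁻¹ * j⁻¹ = z := by rw [e]; group
    rw [this]; exact hzN
  · exact key i hi h1
  · exact key j hj h2
  · exact key (i * j) (M.mul_mem hi hj) hij

end four

variable (c : HexGrp σ L)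

theorem K1_le_CZ : c.K1 ≤ Subgroup.centralizer ({c.z} : Set L) := fun _ hx =>
  Subgroup.mem_centralizer_singleton_iff.2 (c.comm14 hx c.z_mem_K4)

theorem K4_le_CZ : c.K4 ≤ Subgroup.centralizer ({c.z} : Set L) := fun _ hx =>
  Subgroup.mem_centralizer_singleton_iff.2 (c.comm14 c.z_mem_K1 hx).symm

theorem normal_K1 [Finite E] (h2 : (2 : E) ≠ 0) : (c.K1.subgroupOf (Subgroup.centralizer ({c.z} : Set L))).Normal := by
  refine ⟨fun x hx g => ?_⟩
  rw [Subgroup.mem_subgroupOf] at hx ⊢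
  obtain ⟨v, hv⟩ := hx
  obtain ⟨v', hv'⟩ := c.CZ_pb h2 (Subgroup.mem_centralizer_singleton_iff.1 g.2) v
  refine ⟨v', ?_⟩
  rw [← hv', hv]; rfl

theorem normal_K4 [Finite E] (h2 : (2 : E) ≠ 0) : (c.K4.subgroupOf (Subgroup.centralizer ({c.z} : Set L))).Normal := by
  refine ⟨fun x hx g => ?_⟩
  rw [Subgroup.mem_subgroupOf] at hx ⊢
  obtain ⟨v, hv⟩ := hx
  obtain ⟨v', hv'⟩ := c.CZ_p4 h2 (Subgroup.mem_centralizer_singleton_iff.1 g.2) v
  refine ⟨v', ?_⟩
  rw [← hv', hv]; rfl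

theorem mem_sup_iff [Finite E] (h2 : (2 : E) ≠ 0) (b : Subgroup.centralizer ({c.z} : Set L)) :
    b ∈ c.K1.subgroupOf (Subgroup.centralizer ({c.z} : Set L)) ⊔
      c.K4.subgroupOf (Subgroup.centralizer ({c.z} : Set L)) ↔
      ∃ (x : SL2 E) (y : SL2 ↥(fx σ)), (b : L) = c.pb x * c.p4 y := by
  have := normal_K1 c h2
  rw [Subgroup.mem_sup_of_normal_left]
  constructor
  · rintro ⟨x, hx, y, hy, rfl⟩
    rw [Subgroup.mem_subgroupOf] at hx hy
    obtain ⟨v, hv⟩ := hx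
    obtain ⟨w, hw⟩ := hy
    exact ⟨v, w, by rw [hv, hw]; rfl⟩
  · rintro ⟨x, y, e⟩
    exact ⟨⟨c.pb x, K1_le_CZ c ⟨x, rfl⟩⟩, Subgroup.mem_subgroupOf.2 ⟨x, rfl⟩, ⟨c.p4 y, K4_le_CZ c ⟨y, rfl⟩⟩,
      Subgroup.mem_subgroupOf.2 ⟨y, rfl⟩, Subtype.ext e.symm⟩

theorem mem_iff_sq [Finite E] (h2 : (2 : E) ≠ 0) (x : SL2 E) (y : SL2 ↥(fx σ)) (t : ↥(fx σ)) (ht : t ≠ 0) :
    (∃ (x' : SL2 E) (y' : SL2 ↥(fx σ)), c.pb x * c.p4 y * c.pa (dg t ht) = c.pb x' * c.p4 y') ↔ IsSquare t := by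
  constructor
  · rintro ⟨x', y', e⟩
    obtain ⟨a, -, ha⟩ := c.sq_of_mem h2 e
    exact ⟨a, by rw [ha, pow_two]⟩
  · rintro ⟨a, rfl⟩
    have ha : a ≠ 0 := fun h => ht (by rw [h, mul_zero])
    have ha' : (a : E) ≠ 0 := fun h => ha (Subtype.ext h)
    refine ⟨x * (dg (a : E) ha')⁻¹, y * dg a ha, ?_⟩
    have e := c.pa_dg_sq a ha
    have e2 : c.pa (dg (a * a) ht) = (c.pb (dg (a : E) ha'))⁻¹ * c.p4 (dg a ha) := by
      rw [← e]
      congr 2
      exact (pow_two a).symm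
    rw [e2, map_mul, map_mul, map_inv]
    have h3 := c.comm_pb_p4 (dg (a : E) ha')⁻¹ y
    rw [map_inv] at h3
    calc c.pb x * c.p4 y * ((c.pb (dg (a : E) ha'))⁻¹ * c.p4 (dg a ha))
        = c.pb x * (c.p4 y * (c.pb (dg (a : E) ha'))⁻¹) * c.p4 (dg a ha) := by group
      _ = _ := by rw [← h3]; group

theorem index_two [Finite E] (h2 : (2 : E) ≠ 0) :
    (c.K1.subgroupOf (Subgroup.centralizer ({c.z} : Set L)) ⊔
      c.K4.subgroupOf (Subgroup.centralizer ({c.z} : Set L))).index = 2 := by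
  obtain ⟨s, hs0, -, hs⟩ := exists_nonsq (F := ↥(fx σ)) (two_fx h2)
  have hpa : c.pa (dg s hs0) ∈ Subgroup.centralizer ({c.z} : Set L) := by
    rw [Subgroup.mem_centralizer_singleton_iff]
    have h := c.pa_dg_p4 h2 s hs0 (dg (-1) (neg_ne_zero.2 one_ne_zero))
    have e : conjGL (dgl s hs0) (dg (-1 : ↥(fx σ)) (neg_ne_zero.2 one_ne_zero)) =
        dg (-1) (neg_ne_zero.2 one_ne_zero) := by
      rw [conjGL_dgl_ent]
      refine ext_ent ?_ ?_ ?_ ?_ <;> simp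
    rw [e, ← z_eq_p4] at h
    rw [mul_inv_eq_iff_eq_mul] at h
    exact h
  rw [Subgroup.index_eq_two_iff]
  refine ⟨⟨c.pa (dg s hs0), hpa⟩, fun b => ?_⟩
  rw [mem_sup_iff c h2, mem_sup_iff c h2]
  obtain ⟨x, y, t, ht, e⟩ := c.mem_CZ_form h2 (Subgroup.mem_centralizer_singleton_iff.1 b.2)
  have e1 : ((b * ⟨c.pa (dg s hs0), hpa⟩ : Subgroup.centralizer ({c.z} : Set L)) : L) =
      c.pb x * c.p4 y * c.pa (dg (t * s) (mul_ne_zero ht hs0)) := by
    show (b : L) * c.pa (dg s hs0) = _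
    rw [e, ← dg_mul_dg t s ht hs0, map_mul]
    group
  rw [e1, mem_iff_sq c h2, e, mem_iff_sq c h2, hs t ht]
  by_cases h : IsSquare t
  · right; exact ⟨h, not_not.2 h⟩
  · left; exact ⟨h, h⟩

theorem d3_CZ [Finite E] [Finite L] (h2 : (2 : E) ≠ 0) : D3 (Subgroup.centralizer ({c.z} : Set L)) := by
  have := normal_K1 c h2
  have := normal_K4 c h2
  have hz1 : c.z ≠ 1 := fun h => by
    have h3 := c.orderOf_z h2
    rw [h, orderOf_one] at h3
    exact absurd h3 (by norm_num)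
  obtain ⟨i, hi, j, hj, h1, h3, h4⟩ := quat_of (K := E) c.pb (z := c.z) rfl
  obtain ⟨i', hi', j', hj', h1', h3', h4'⟩ := quat_of (K := ↥(fx σ)) c.p4 c.z_eq_p4
  refine d3_of_two _ _ (index_two c h2) ?_ ?_
  · exact four_of (M := c.K4) (K4_le_CZ c) c.z_mem_K1 c.z_sq hz1 (fun x hx hx' => c.eq_of_mem_inf h2 hx' hx)
      hi' hj' h1' h3' h4'
  · exact four_of (M := c.K1) (K1_le_CZ c) c.z_mem_K4 c.z_sq hz1 (fun x hx hx' => c.eq_of_mem_inf h2 hx hx')
      hi hj h1 h3 h4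

include c in
/-- **`D3` for a finite group of hexagon type in odd characteristic** -/
theorem d3_hex [Finite E] [Finite L] (h2 : (2 : E) ≠ 0) : D3 L := by
  refine d3_of_conj _ (d3_CZ c h2) fun Q => ?_
  -- an involution in the centre of `Q`
  have hz : c.z ∈ Subgroup.zpowers c.z := Subgroup.mem_zpowers _
  have h2c : 2 ∣ Nat.card L := by
    rw [← c.orderOf_z h2]
    exact orderOf_dvd_natCard _
  have hQ : Nontrivial (Q : Subgroup L) := by
    rw [← Finite.one_lt_card_iff_nontrivial]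
    have h3 := Q.dvd_card_of_dvd_card h2c
    exact lt_of_lt_of_le one_lt_two (Nat.le_of_dvd Nat.card_pos h3)
  have hZ : Nontrivial (Subgroup.center (Q : Subgroup L)) := Q.isPGroup'.center_nontrivial
  have hZp : IsPGroup 2 (Subgroup.center (Q : Subgroup L)) := Q.isPGroup'.to_subgroup _
  have hd : 2 ∣ Nat.card (Subgroup.center (Q : Subgroup L)) := by
    obtain ⟨n, hn0, hn⟩ := hZp.nontrivial_iff_card.1 hZ
    rw [hn]; exact dvd_pow_self 2 (by omega)
  obtain ⟨t, ht⟩ := exists_prime_orderOf_dvd_card' 2 hd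
  have htt : ((t : (Q : Subgroup L)) : L) * t = 1 := by
    have : t * t = 1 := by
      have h := pow_orderOf_eq_one t
      rw [ht, pow_two] at h
      exact h
    exact congrArg (fun x : Subgroup.center (Q : Subgroup L) => ((x : (Q : Subgroup L)) : L)) this
  have ht1 : ((t : (Q : Subgroup L)) : L) ≠ 1 := by
    intro h
    have : t = 1 := Subtype.ext (Subtype.ext h)
    rw [this, orderOf_one] at ht
    exact absurd ht (by norm_num)
  obtain ⟨x, hx⟩ := isConj_iff.1 (c.isConj_z h2 htt ht1)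
  refine ⟨x, fun g hg => ?_⟩
  rw [Subgroup.mem_centralizer_singleton_iff, ← hx]
  have hc : g * ((t : (Q : Subgroup L)) : L) = ((t : (Q : Subgroup L)) : L) * g :=
    congrArg Subtype.val (Subgroup.mem_center_iff.1 t.2 ⟨g, hg⟩)
  calc x * g * x⁻¹ * (x * ((t : (Q : Subgroup L)) : L) * x⁻¹) = x * (g * ((t : (Q : Subgroup L)) : L)) * x⁻¹ := by group
    _ = x * (((t : (Q : Subgroup L)) : L) * g) * x⁻¹ := by rw [hc]
    _ = _ := by group

/-- **`³D₄(q)`, `q` odd** -/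
theorem d3_3d4 {S : Type u} [Group S] {K : Type v} [Field K] [Fintype K] {q : ℕ}
    (hK : Fintype.card K = q ^ 3) (hq : Odd q) (e : S ≃* Cfsg.Lie.twistedD4 K q) : D3 S := by
  have h2 : (2 : K) ≠ 0 := Cfsg.Agent.H588.UnfLie.two_ne_of_odd (by rw [hK]; exact hq.pow)
  obtain ⟨σ, -, ⟨c⟩⟩ := Cfsg.Agent.Cit.HexD4.exists_d4 hK
  exact d3_congr e.symm (d3_hex c h2)

/-- **`G₂(q)`, `q` odd** -/
theorem d3_g2 {S : Type u} [Group S] {F : Type v} [Field F] [Fintype F] (hF : Odd (Fintype.card F))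
    (e : S ≃* Cfsg.Lie.chevG2.group F) : D3 S := by
  have h2 := Cfsg.Agent.H588.UnfLie.two_ne_of_odd hF
  exact d3_congr e.symm (d3_hex (Cfsg.Agent.Cit.HexG2.g2 F h2) h2)

end Cfsg.Agent.H168.K547
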